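import Cfsg.Agent.RankOneClass.Abelian.Prelim
import Cfsg.Agent.RankOneClass.Odd.Residual

/-!
# Characters of a subgroup of an abelian `Q` moved freely by `D`
-/

set_option autoImplicit false
set_option linter.unusedSectionVars false

namespace Cfsg.Agent.RankOneClass.Abelian

open Subgroup MulAction Cfsg.Agent.RankOne Cfsg.Agent.Zassenhaus Cfsg.Agent.RankOneClass.Odd
open scoped ComplexConjugate _root_.Classical

universe u v

variable {G : Type u} [Group G] [Fintype G] {D R : Subgroup G} (hn : NormBy D R)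

theorem cdeg_one_of_comm {H : Type u} [Group H] [Finite H] (hc : ∀ x y : H, x * y = y * x)
    (θ : IrrCharacter H) : cdeg θ = 1 :=
  haveI : IsMulCommutative H := ⟨⟨hc⟩⟩
  cdeg_eq (by rw [Char.IsIrr.degree_one_of_isMulCommutative θ.2, Nat.cast_one])

theorem card_irr_of_comm {H : Type u} [Group H] [Finite H] (hc : ∀ x y : H, x * y = y * x) :
    Nat.card (IrrCharacter H) = Nat.card H := by
  rw [Char.card_irrCharacter, Char.card_conjClasses_eq_card_iff]
  exact hc

/-- The non-real characters moved by every nontrivial element of `D`. -/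
noncomputable def freeSet : Finset (IrrCharacter ↥R) :=
  Finset.univ.filter fun θ => (∀ d, actC hn d θ = θ → d = 1) ∧ Char.conjIrr θ ≠ θ

/-- The nonprincipal characters fixed by some nontrivial element of `D`. -/
noncomputable def fixSet : Finset (IrrCharacter ↥R) :=
  Finset.univ.filter fun θ => θ ≠ oneChr ↥R ∧ ∃ d, d ≠ 1 ∧ actC hn d θ = θ

theorem mem_freeSet {θ : IrrCharacter ↥R} :
    θ ∈ freeSet hn ↔ (∀ d, actC hn d θ = θ → d = 1) ∧ Char.conjIrr θ ≠ θ := by simp [freeSet]

/-- Each fixed character is fixed by an element and its inverse. -/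
theorem two_mul_fixSet (hodd : Odd (Nat.card D)) {k g : ℕ}
    (hb : ∀ d : ↥D, d ≠ 1 → k * Nat.card {θ : IrrCharacter ↥R // actC hn d θ = θ} ≤ g) :
    k * (2 * (fixSet hn).card) ≤ (Nat.card D - 1) * g := by
  let P : Finset (IrrCharacter ↥R × ↥D) := (fixSet hn ×ˢ (Finset.univ.erase 1)).filter
    fun p => actC hn p.2 p.1 = p.1
  have h1 : 2 * (fixSet hn).card ≤ P.card := by
    rw [show P.card = ∑ θ ∈ fixSet hn,
        ((Finset.univ.erase (1 : ↥D)).filter fun d => actC hn d θ = θ).card by
      simp only [P, Finset.card_filter, Finset.sum_product],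
      mul_comm, ← smul_eq_mul, ← Finset.sum_const]
    refine Finset.sum_le_sum fun θ hθ => ?_
    obtain ⟨-, d, hd1, hd⟩ := (Finset.mem_filter.1 hθ).2
    have hsub : ({d, d⁻¹} : Finset ↥D) ⊆
        (Finset.univ.erase (1 : ↥D)).filter fun d => actC hn d θ = θ := by
      intro c hc
      simp only [Finset.mem_insert, Finset.mem_singleton] at hc
      simp only [Finset.mem_filter, Finset.mem_erase, Finset.mem_univ, and_true]
      rcases hc with rfl | rfl
      · exact ⟨hd1, hd⟩
      · exact ⟨inv_ne_one.2 hd1, (mem_stabC hn).1 (inv_mem ((mem_stabC hn).2 hd))⟩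
    refine le_trans (le_of_eq ?_) (Finset.card_le_card hsub)
    rw [Finset.card_pair]
    intro e
    obtain ⟨j, hj⟩ := hodd.of_dvd_nat (orderOf_dvd_natCard (G := ↥D) d)
    have h2 : d ^ 2 = 1 := by
      rw [pow_two]; nth_rw 2 [e]; exact mul_inv_cancel d
    have := pow_orderOf_eq_one d
    rw [hj, pow_succ, pow_mul, h2, one_pow, one_mul] at this
    exact hd1 this
  refine le_trans (Nat.mul_le_mul_left k h1) ?_
  have hc : (Finset.univ.erase (1 : ↥D)).card = Nat.card D - 1 := by
    rw [Finset.card_erase_of_mem (Finset.mem_univ _), Finset.card_univ, Nat.card_eq_fintype_card]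
  rw [show P.card = ∑ d ∈ Finset.univ.erase (1 : ↥D),
      ((fixSet hn).filter fun θ => actC hn d θ = θ).card by
    simp only [P, Finset.card_filter, Finset.sum_product]; exact Finset.sum_comm,
    ← hc, ← smul_eq_mul (a := Finset.card _) (b := g), ← Finset.sum_const, Finset.mul_sum]
  refine Finset.sum_le_sum fun d hd => le_trans (Nat.mul_le_mul_left k ?_) (hb d (Finset.mem_erase.1 hd).1)
  rw [Nat.card_eq_fintype_card, Fintype.card_subtype]
  exact Finset.card_le_card fun θ hθ => by simpa using (Finset.mem_filter.1 hθ).2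

variable (hcomm : ∀ x y : ↥R, x * y = y * x)
include hcomm

theorem card_real :
    Nat.card {θ : IrrCharacter ↥R // Char.conjIrr θ = θ} = Nat.card {x : ↥R // x⁻¹ = x} := by
  have hmk : Function.Injective (ConjClasses.mk : ↥R → ConjClasses ↥R) := fun x y e => by
    obtain ⟨c, rfl⟩ := isConj_iff.1 (ConjClasses.mk_eq_mk_iff_isConj.1 e)
    rw [hcomm c x, mul_inv_cancel_right]
  let bij : ↥R ≃ ConjClasses ↥R := Equiv.ofBijective _ ⟨hmk, ConjClasses.mk_surjective⟩
  rw [Char.brauer_permutation Char.conjIrr (fun C => ConjClasses.mk (bij.symm C)⁻¹)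
    fun χ g g' hg => by
      obtain rfl : g⁻¹ = g' := by
        rw [show bij.symm (ConjClasses.mk g) = g from bij.symm_apply_apply g] at hg
        exact hmk hg
      rw [Char.conjIrr_apply, Char.IsChar.inv_eq_conj (Char.IsIrr.isCharacter χ.2)]]
  refine (Nat.card_congr (bij.subtypeEquiv fun x => ?_)).symm
  show x⁻¹ = x ↔ ConjClasses.mk (bij.symm (ConjClasses.mk x))⁻¹ = ConjClasses.mk x
  rw [show bij.symm (ConjClasses.mk x) = x from bij.symm_apply_apply x, hmk.eq_iff]

/-- All characters are free, fixed or real. -/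
theorem card_le_sum : Nat.card R ≤ (freeSet hn).card + (fixSet hn).card +
    Nat.card {x : ↥R // x⁻¹ = x} := by
  have e : Nat.card {θ : IrrCharacter ↥R // Char.conjIrr θ = θ} =
      (Finset.univ.filter fun θ : IrrCharacter ↥R => Char.conjIrr θ = θ).card := by
    rw [Nat.card_eq_fintype_card, Fintype.card_subtype]
  rw [← card_real hcomm, e, ← card_irr_of_comm hcomm, Nat.card_eq_fintype_card, ← Finset.card_univ]
  refine le_trans (Finset.card_le_card fun θ _ => ?_)
    (le_trans (Finset.card_union_le _ _) (Nat.add_le_add_right (Finset.card_union_le _ _) _))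
  simp only [Finset.mem_union, freeSet, fixSet, Finset.mem_filter, Finset.mem_univ, true_and]
  by_cases hr : Char.conjIrr θ = θ
  · exact Or.inr hr
  by_cases hf : ∀ d, actC hn d θ = θ → d = 1
  · exact Or.inl (Or.inl ⟨hf, hr⟩)
  push Not at hf
  obtain ⟨d, hd, hd1⟩ := hf
  exact Or.inl (Or.inr ⟨fun e => hr (by rw [e]; exact Subtype.ext (funext fun _ => by simp [oneChr])),
    d, hd1, hd⟩)

omit hcomm

section Rank

variable {Ω : Type v} [MulAction G Ω] {a : Ω} {t : G} {Q : Subgroup G} (hC : Ctx G Ω a t Q)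
  (hab : IsMulCommutative Q)
include hC hab

omit hn in
theorem real_le {R : Subgroup G} (hR : R ≤ Q) : Nat.card {x : ↥R // x⁻¹ = x} ≤ qq G a :=
  Nat.card_le_card_of_injective (fun x => (⟨(x.1 : G), hC.mem_zGrp_of_sq (hR x.1.2) (by
      nth_rw 1 [← congrArg Subtype.val x.2]; simp)⟩ : ↥(zGrp G a)))
    fun x y e => Subtype.ext (Subtype.ext (congrArg (fun z : ↥(zGrp G a) => (z : G)) e))

/-- The fixed characters against a bound on the centraliser in `Z`. -/
theorem card_fix_le {R : Subgroup G} (hn : NormBy (twoPt G a t) R) (hR : R ≤ Q)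
    {i : ℕ} (hexp : ∀ x ∈ R, x ^ 2 ^ i = 1) (d : ↥(twoPt G a t)) :
    Nat.card {θ : IrrCharacter ↥R // actC hn d θ = θ} ≤
      Nat.card (zGrp G a ⊓ centralizer {(d : G)} : Subgroup G) ^ i := by
  rw [card_fixed_chars hn d fun x y => Subtype.ext (comm_Q hab (hR x.2) (hR y.2)).eq]
  have h : Nat.card {x : ↥R // cjHom hn d x = x} =
      Nat.card (R ⊓ centralizer {(d : G)} : Subgroup G) := Nat.card_congr
    { toFun := fun x => ⟨(x.1 : G), x.1.2, mem_centralizer_singleton_iff.2
        (mul_inv_eq_iff_eq_mul.1 (congrArg Subtype.val x.2)).symm⟩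
      invFun := fun x => ⟨⟨x.1, x.2.1⟩, Subtype.ext
        (mul_inv_eq_iff_eq_mul.2 (mem_centralizer_singleton_iff.1 x.2.2).symm)⟩
      left_inv := fun _ => rfl
      right_inv := fun _ => rfl }
  rw [h]
  refine card_le_pow hC hab i (inf_le_left.trans hR) (fun x hx => hexp x hx.1) ?_
  refine Nat.le_of_dvd Nat.card_pos (card_dvd_of_le (le_inf inf_le_right ?_))
  exact inf_le_left.trans inf_le_right

end Rank

end Cfsg.Agent.RankOneClass.Abelian
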