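import Cfsg.Agent.RankOneClass.ZField
import Cfsg.Agent.RankOneClass.Odd.Stab

/-!
# The subgroups of an abelian `Q` and the fixed points of `D` on them
-/

set_option autoImplicit false
set_option linter.unusedSectionVars false

namespace Cfsg.Agent.RankOneClass.Abelian

open Subgroup MulAction Cfsg.Agent.RankOne

universe u v

variable {G : Type u} {Ω : Type v} [Group G] [Finite G] [MulAction G Ω] {a : Ω} {t : G}
  {Q : Subgroup G} (hC : Ctx G Ω a t Q) (hab : IsMulCommutative Q)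
include hC hab

omit hC in
theorem comm_Q {x y : G} (hx : x ∈ Q) (hy : y ∈ Q) : Commute x y :=
  congrArg Subtype.val (mul_comm' (⟨x, hx⟩ : ↥Q) ⟨y, hy⟩)

/-- Squaring on a subgroup of `Q`. -/
noncomputable def sqHom {R : Subgroup G} (hR : R ≤ Q) : ↥R →* G :=
  MonoidHom.mk' (fun x => (x : G) * x) fun x y => by
    show ((x : G) * y) * (x * y) = x * x * (y * y)
    have := (comm_Q hab (hR x.2) (hR y.2)).eq
    calc ((x : G) * y) * (x * y) = x * (y * x) * y := by group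
      _ = x * (x * y) * y := by rw [this]
      _ = _ := by group

omit hC in
theorem sqHom_apply {R : Subgroup G} (hR : R ≤ Q) (x : ↥R) :
    sqHom hab hR x = (x : G) * x := rfl

omit hC in
theorem range_sq_le {R : Subgroup G} (hR : R ≤ Q) : (sqHom hab hR).range ≤ R := by
  rintro y ⟨x, rfl⟩
  exact mul_mem x.2 x.2

theorem card_sq {R : Subgroup G} (hR : R ≤ Q) :
    Nat.card R = Nat.card (R ⊓ zGrp G a : Subgroup G) * Nat.card (sqHom hab hR).range := by
  have h : Nat.card (sqHom hab hR).ker = Nat.card (R ⊓ zGrp G a : Subgroup G) := Nat.card_congr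
    { toFun := fun x => ⟨(x.1 : G), x.1.2,
        hC.mem_zGrp_of_sq (hR x.1.2) (MonoidHom.mem_ker.1 x.2)⟩
      invFun := fun x => ⟨⟨x.1, x.2.1⟩, MonoidHom.mem_ker.2 (hC.zGrp_sq x.2.2)⟩
      left_inv := fun _ => rfl
      right_inv := fun _ => rfl }
  rw [← h, ← Subgroup.index_ker]
  exact ((sqHom hab hR).ker.card_mul_index).symm

theorem card_le_pow : ∀ (i : ℕ) {R : Subgroup G}, R ≤ Q → (∀ x ∈ R, x ^ 2 ^ i = 1) → ∀ {c : ℕ},
    Nat.card (R ⊓ zGrp G a : Subgroup G) ≤ c → Nat.card R ≤ c ^ i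
  | 0, R, _, h, c, _ => by
    rw [pow_zero, show R = ⊥ from (eq_bot_iff_forall R).2 fun x hx => by simpa using h x hx,
      Subgroup.card_bot]
  | i + 1, R, hR, h, c, hc => by
    rw [card_sq hC hab hR, pow_succ']
    have hle := range_sq_le hab hR
    refine Nat.mul_le_mul hc (card_le_pow i (hle.trans hR) ?_ ?_)
    · rintro y ⟨x, rfl⟩
      rw [sqHom_apply, ← pow_two, ← pow_mul, ← pow_succ']
      exact h x x.2
    · exact le_trans (Nat.le_of_dvd Nat.card_pos (card_dvd_of_le (inf_le_inf_right _ hle))) hc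

theorem zGrp_le_of_invariant (h2 : IsPGroup 2 Q) {R : Subgroup G} (hR : R ≤ Q)
    (hn : ∀ k ∈ kGrp G a t, ∀ x ∈ R, k * x * k⁻¹ ∈ R) (hne : R ≠ ⊥) : zGrp G a ≤ R := by
  haveI : Fact (Nat.Prime 2) := ⟨Nat.prime_two⟩
  obtain ⟨n, hn2⟩ := IsPGroup.iff_card.1 (h2.to_le hR)
  have hn0 : n ≠ 0 := fun e => hne (Subgroup.eq_bot_of_card_eq _ (by rw [hn2, e, pow_zero]))
  obtain ⟨z, hz⟩ := exists_prime_orderOf_dvd_card' (G := ↥R) 2 (hn2 ▸ dvd_pow_self 2 hn0)
  have hz2 : (z : G) * z = 1 := by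
    rw [← pow_two, ← coe_pow, ← hz, pow_orderOf_eq_one, coe_one]
  have hz1 : (z : G) ≠ 1 := fun e => by
    rw [OneMemClass.coe_eq_one.1 e, orderOf_one] at hz
    omega
  intro w hw
  by_cases hw1 : w = 1
  · rw [hw1]; exact one_mem R
  obtain ⟨k, hk, e⟩ := hC.exists_kGrp_conj (hC.mem_zGrp_of_sq (hR z.2) hz2) hz1 hw hw1
  exact e ▸ hn k hk z z.2

theorem card_sq_invariant (h2 : IsPGroup 2 Q) {R : Subgroup G} (hR : R ≤ Q)
    (hn : ∀ k ∈ kGrp G a t, ∀ x ∈ R, k * x * k⁻¹ ∈ R) (hne : R ≠ ⊥) :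
    Nat.card R = qq G a * Nat.card (sqHom hab hR).range := by
  rw [card_sq hC hab hR, inf_eq_right.2 (zGrp_le_of_invariant hC hab h2 hR hn hne)]
  rfl

omit hC in
theorem range_invariant {R : Subgroup G} (hR : R ≤ Q) {k : G}
    (hn : ∀ x ∈ R, k * x * k⁻¹ ∈ R) : ∀ y ∈ (sqHom hab hR).range,
      k * y * k⁻¹ ∈ (sqHom hab hR).range := by
  rintro y ⟨x, rfl⟩
  exact ⟨⟨_, hn x x.2⟩, by simp only [sqHom_apply]; group⟩

theorem exponent_le (h2 : IsPGroup 2 Q) : ∀ (i : ℕ) {R : Subgroup G}, R ≤ Q →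
    (∀ k ∈ kGrp G a t, ∀ x ∈ R, k * x * k⁻¹ ∈ R) → Nat.card R = qq G a ^ i →
      ∀ x ∈ R, x ^ 2 ^ i = 1
  | 0, R, _, _, h, x, hx => by
    rw [pow_zero] at h
    rw [Subgroup.eq_bot_of_card_eq _ h, mem_bot] at hx
    simp [hx]
  | i + 1, R, hR, hn, h, x, hx => by
    have hq := hC.four_le_qq
    have hne : R ≠ ⊥ := fun e => by
      rw [e, Subgroup.card_bot] at h
      have := Nat.one_lt_pow (n := i + 1) (by omega) (show 1 < qq G a by omega)
      omega
    have h1 := card_sq_invariant hC hab h2 hR hn hne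
    rw [h, pow_succ', Nat.mul_left_cancel_iff (by omega)] at h1
    have := exponent_le h2 i ((range_sq_le hab hR).trans hR)
      (fun k hk => range_invariant hab hR (hn k hk)) h1.symm _ ⟨⟨x, hx⟩, rfl⟩
    rw [sqHom_apply, ← pow_two, ← pow_mul, ← pow_succ'] at this
    exact this

theorem wGrp_eq_bot (h2 : IsPGroup 2 Q) : wGrp G a t = ⊥ := by
  refine (eq_bot_iff_forall _).2 fun w hw => ?_
  obtain ⟨hwD, hwZ⟩ := hC.mem_wGrp.1 hw
  have hodd : Odd (orderOf (⟨w, hwD⟩ : ↥(twoPt G a t))) :=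
    hC.setup.odd_card.of_dvd_nat (orderOf_dvd_natCard _)
  rw [orderOf_mk] at hodd
  have hfix : ∀ (i : ℕ) (x : G), x ∈ Q → x ^ 2 ^ i = 1 → w * x * w⁻¹ = x := by
    intro i
    induction i with
    | zero => intro x _ e; rw [pow_zero, pow_one] at e; simp [e]
    | succ i ih =>
      intro x hx e
      have hsq : w * (x * x) * w⁻¹ = x * x :=
        ih _ (mul_mem hx hx) (by rw [← pow_two, ← pow_mul, ← pow_succ']; exact e)
      have hx' : w * x * w⁻¹ ∈ Q := conj_mem_Q hC.setup (twoPt_le hwD) hx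
      set y := w * x * w⁻¹ * x⁻¹ with hy
      have hyQ : y ∈ Q := mul_mem hx' (inv_mem hx)
      have hy2 : y * y = 1 := by
        calc y * y = (w * x * w⁻¹) * (x⁻¹ * (w * x * w⁻¹)) * x⁻¹ := by rw [hy]; group
          _ = (w * x * w⁻¹) * ((w * x * w⁻¹) * x⁻¹) * x⁻¹ := by
            rw [(comm_Q hab (inv_mem hx) hx').eq]
          _ = (w * (x * x) * w⁻¹) * (x * x)⁻¹ := by group
          _ = 1 := by rw [hsq]; group
      have hwy : w * y * w⁻¹ = y := by
        rw [(hwZ y (hC.mem_zGrp_of_sq hyQ hy2)).eq, mul_inv_cancel_right]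
      have hk : ∀ k : ℕ, w ^ k * x * (w ^ k)⁻¹ = y ^ k * x := by
        intro k
        induction k with
        | zero => simp
        | succ k ihk =>
          calc w ^ (k + 1) * x * (w ^ (k + 1))⁻¹ = w * (w ^ k * x * (w ^ k)⁻¹) * w⁻¹ := by
                rw [pow_succ']; group
            _ = (w * y ^ k * w⁻¹) * (w * x * w⁻¹) := by rw [ihk]; group
            _ = y ^ k * (y * x) := by rw [← conj_pow, hwy, hy]; group
            _ = _ := by rw [pow_succ]; group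
      have h1 := hk (orderOf w)
      rw [pow_orderOf_eq_one, inv_one, one_mul, mul_one, eq_comm, mul_eq_right] at h1
      obtain ⟨k, hk'⟩ := hodd
      rw [hk', pow_succ, pow_mul, pow_two, hy2, one_pow, one_mul, hy, mul_inv_eq_one] at h1
      exact h1
  haveI := hC.faithful
  obtain ⟨n, hn⟩ := IsPGroup.iff_card.1 h2
  refine eq_of_smul_eq_smul (α := Ω) fun c => ?_
  rw [one_smul]
  by_cases hc : c = a
  · rw [hc]; exact (mem_twoPt.1 hwD).1
  obtain ⟨x, hx, -, rfl⟩ : ∃ x ∈ Q, x = x ∧ x • (t • a) = c := by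
    obtain ⟨x, hx, e⟩ := exists_Q_smul hC.setup hc
    exact ⟨x, hx, rfl, e⟩
  have hx' : x ^ 2 ^ n = 1 := by
    rw [← hn]
    exact congrArg Subtype.val (pow_card_eq_one' (x := (⟨x, hx⟩ : ↥Q)))
  have e := hfix n x hx hx'
  rw [← mul_smul, mul_inv_eq_iff_eq_mul.1 e, mul_smul, (mem_twoPt.1 hwD).2]

/-- The centraliser of a nontrivial element of `D` in `Z` is small. -/
theorem cent_cube (h2 : IsPGroup 2 Q) {d : G} (hd : d ∈ twoPt G a t) (hd1 : d ≠ 1) :
    Nat.card (zGrp G a ⊓ centralizer {d} : Subgroup G) ^ 3 ≤ qq G a := by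
  by_cases hbot : (zGrp G a ⊓ centralizer {d} : Subgroup G) = ⊥
  · rw [hbot, Subgroup.card_bot, one_pow]
    have := hC.four_le_qq
    omega
  obtain ⟨z₀, hz₀, hz₀1⟩ := (bot_or_exists_ne_one _).resolve_left hbot
  obtain ⟨hz₀Z, hz₀d⟩ := mem_inf.1 hz₀
  obtain ⟨s, r, hsr⟩ := hC.exists_link
  have hsZ : s ∈ zGrp G a := subset_closure hsr.1
  obtain ⟨κ, hκ, eκ⟩ := hC.exists_kGrp_conj hsZ hsr.1.2.1 hz₀Z hz₀1
  have hκD := Ctx.kGrp_le G a t hκ
  obtain ⟨k, hk, c, hc, ekc⟩ := hC.exists_kv (mul_mem (mul_mem (inv_mem hκD) hd) hκD)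
  have hds : κ⁻¹ * d * κ * s * (κ⁻¹ * d * κ)⁻¹ = s := by
    calc κ⁻¹ * d * κ * s * (κ⁻¹ * d * κ)⁻¹ = κ⁻¹ * (d * (κ * s * κ⁻¹) * d⁻¹) * κ := by group
      _ = κ⁻¹ * (κ * s * κ⁻¹) * κ := by
        rw [eκ, ← mem_centralizer_singleton_iff.1 hz₀d, mul_inv_cancel_right]
      _ = s := by group
  have hk1 : k = 1 := by
    refine hC.kGrp_conj_inj hk (one_mem _) hsZ hsr.1.2.1 ?_
    rw [ekc] at hds
    conv_rhs => rw [one_mul, inv_one, mul_one, ← hds]
    have hcs : c * s * c⁻¹ = s := by rw [(hC.link_vGrp hsr hc).1.eq, mul_inv_cancel_right]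
    calc k * s * k⁻¹ = k * (c * s * c⁻¹) * k⁻¹ := by rw [hcs]
      _ = _ := by group
  rw [hk1, one_mul] at ekc
  obtain ⟨F, _, _, hF, ⟨X⟩⟩ := hC.exists_zField hsr
  have hpow := hC.card_centralizer_pow X hF hc
  have hord : 3 ≤ orderOf (X.aut c) := by
    have h1 : orderOf (X.aut c) ≠ 1 := fun e => by
      have hW := (X.aut_eq_one c hc).1 (orderOf_eq_one_iff.1 e)
      rw [wGrp_eq_bot hC hab h2, mem_bot] at hW
      rw [hW] at ekc
      exact hd1 (by simpa [mul_assoc] using congrArg (fun y => κ * y * κ⁻¹) ekc)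
    have hodd : Odd (orderOf (X.aut c)) := by
      refine Odd.of_dvd_nat ?_ (orderOf_map_dvd X.autHom ⟨c, hc⟩)
      exact hC.odd_vGrp.of_dvd_nat (orderOf_dvd_natCard _)
    obtain ⟨j, hj⟩ := hodd
    omega
  have hle : Nat.card (zGrp G a ⊓ centralizer {d} : Subgroup G) ≤
      Nat.card (zGrp G a ⊓ centralizer {c} : Subgroup G) := by
    refine Nat.card_le_card_of_injective (fun x => ⟨κ⁻¹ * x.1 * κ, ?_, ?_⟩) fun x y e =>
      Subtype.ext (mul_left_cancel (mul_right_cancel (congrArg Subtype.val e)))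
    · simpa using hC.conj_mem_zGrp (twoPt_le (inv_mem hκD)) x.2.1
    · refine mem_centralizer_singleton_iff.2 ?_
      rw [← ekc]
      calc κ⁻¹ * x.1 * κ * (κ⁻¹ * d * κ) = κ⁻¹ * (x.1 * d) * κ := by group
        _ = κ⁻¹ * (d * x.1) * κ := by rw [mem_centralizer_singleton_iff.1 x.2.2]
        _ = _ := by group
  rw [← hpow]
  exact le_trans (Nat.pow_le_pow_left hle 3) (Nat.pow_le_pow_right Nat.card_pos hord)

omit hC hab

theorem small_numeric {q f v : ℕ} (hq : q = 2 ^ f) (hf : 2 ≤ f) (hv : v ∣ f) (ho : Odd v) :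
    v ^ 3 < 8 * q ∧ ((q - 1) * v + 1) ^ 2 < q ^ 3 ∧ 2 * ((v + 4) * ((q - 1) * v) + q) < q ^ 3 ∧
      2 * v ≤ q := by
  subst hq
  have hvf : v ≤ f := Nat.le_of_dvd (by omega) hv
  rcases Nat.lt_or_ge f 5 with h | h
  · interval_cases f <;> interval_cases v <;> revert hv ho <;> decide
  have key : ∀ e : ℕ, 5 ≤ e → e ^ 2 < 2 ^ e ∧ e ^ 3 < 8 * 2 ^ e := by
    intro e he
    induction e, he using Nat.le_induction with
    | base => decide
    | succ e he ih => rw [pow_succ 2 e]; constructor <;> nlinarith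
  obtain ⟨h1, h2⟩ := key f h
  have h3 : v ^ 2 ≤ f ^ 2 := Nat.pow_le_pow_left hvf 2
  have h4 : v ^ 3 ≤ f ^ 3 := Nat.pow_le_pow_left hvf 3
  have h32 : 2 ^ 5 ≤ 2 ^ f := Nat.pow_le_pow_right two_pos h
  obtain ⟨q, hq⟩ : ∃ q, 2 ^ f = q + 1 := ⟨2 ^ f - 1, by omega⟩
  rw [hq] at h1 h2 h32 ⊢
  rw [Nat.add_sub_cancel]
  have hv2 : v * v < q + 1 := by nlinarith
  have hv1 : v ≤ v * v := Nat.le_mul_self v
  have hv0 : 1 ≤ v := ho.pos
  have h5 : q * v + 1 ≤ (q + 1) * v := by nlinarith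
  refine ⟨by omega, ?_, ?_, by nlinarith⟩
  · calc (q * v + 1) ^ 2 ≤ ((q + 1) * v) ^ 2 := Nat.pow_le_pow_left h5 2
      _ = (q + 1) ^ 2 * (v * v) := by ring
      _ < (q + 1) ^ 2 * (q + 1) := Nat.mul_lt_mul_of_pos_left hv2 (by positivity)
      _ = _ := by ring
  · have h6 : 10 * q + 2 < (q + 1) ^ 2 := by
      nlinarith [Nat.mul_le_mul_right q (show 31 ≤ q by omega)]
    have h7 := Nat.mul_lt_mul_of_pos_left h6 (show 0 < q + 1 by omega)
    nlinarith [Nat.mul_le_mul_left q (show (v + 4) * v ≤ 5 * (q + 1) by nlinarith)]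

end Cfsg.Agent.RankOneClass.Abelian
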